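import Groth.Agent.IntSh.K570.RkForm
import Groth.Agent.IntSh.K570.PushComp
import Groth.Agent.IntSh.K570.ProjF
import Groth.Agent.IntSh.K878.PushSup
import Groth.Agent.IntSh.K879.DimK
import Groth.Agent.PerfC.RpushAffine
import Groth.Agent.Krr.H485.PushCoh

/-!
# Pull-back along a finite surjective morphism and push-forward of classes

* `exists_xi` : `(ν ≫ π)_*(ν^*η · [O]) = e π_*(η · [O]) + π_*(η · ξ)` with `ξ` of codimension `≥ 1`;
* `Fl` : the filtration of `K_•(X)` by the transcendence degree of the points of the support.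
-/

set_option autoImplicit false
set_option linter.unusedSectionVars false
universe u v w

open CategoryTheory CategoryTheory.Limits AlgebraicGeometry
open Groth.Agent Groth.Agent.Krr.H485 K878.KSup

namespace K38.FinPull

section Finite

variable {X' X Y : Scheme.{u}} [IsNoetherian X] [IsNoetherian X'] [IsNoetherian Y] [IsIntegral X]
  (ν : X' ⟶ X) [IsFinite ν] (π : X ⟶ Y) [IsProper π] [HasInjectiveResolutions X.Modules]
  [HasInjectiveResolutions X'.Modules]
  {KX : Type v} [CommRing KX] {φX : SGA6.Kvb X →+ KX} {μ : KX →+ SGA6.Kcoh X →+ SGA6.Kcoh X}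
  {KX' : Type w} [CommRing KX'] {φX' : SGA6.Kvb X' →+ KX'} {μ' : KX' →+ SGA6.Kcoh X' →+ SGA6.Kcoh X'}

theorem isZero_Rpush_fin (F : X'.Modules) (hF : Coh.IsCoh F) (q : ℕ) (hq : 0 < q) :
    IsZero ((Coh.Rpush ν q).obj F) :=
  PerfC.RpushAffine.isZero_Rpush ν F hF.1 q hq

theorem isCoh_push_fin {F : X'.Modules} (hF : Coh.IsCoh F) :
    Coh.IsCoh ((Scheme.Modules.pushforward ν).obj F) :=
  PerfA.CohSerre.isCoh_of_iso ((Scheme.Modules.pushforward ν).rightDerivedZeroIsoSelf.app F)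
    (S0036.result ν F hF 0)

theorem exists_xi {N N' : ℕ} {gc : SGA6.Kcoh X →+ SGA6.Kcoh Y} (hgc : KRR.IsPushCoh π N gc)
    {gc' : SGA6.Kcoh X' →+ SGA6.Kcoh Y} (hgc' : KRR.IsPushCoh (ν ≫ π) N' gc')
    (hφ : Function.Surjective φX) (hμ : KDet.IsCap φX μ) (hμ' : KDet.IsCap φX' μ')
    {pν : KX →+ KX'} (hpν : KRR.IsPull ν φX φX' pν) (η : KX) :
    ∃ ξ ∈ KDet.coniv X 1, gc' (μ' (pν η) (KDet.clc X' (Coh.structureModule X'))) =
      ((Module.length (X.presheaf.stalk (genericPoint X))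
          (((Scheme.Modules.pushforward ν).obj (Coh.structureModule X')).presheaf.stalk (genericPoint X))).toNat : ℤ) •
        gc (μ η (KDet.clc X (Coh.structureModule X))) + gc (μ η ξ) := by
  have hO : Coh.IsCoh (Coh.structureModule X') := Fdesc.StructMod.isCoh_structureModule X'
  have h1 := K570.RkForm.clc_sub_mem (isCoh_push_fin ν hO)
  refine ⟨_, h1, ?_⟩
  let gν := PushCoh.pushCoh ν 0 (fun F hF q hq => isZero_Rpush_fin ν F hF q hq)
  have hgν : KRR.IsPushCoh ν 0 gν := PushCoh.isPushCoh_pushCoh ν 0 _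
  have h2 : gν (KDet.clc X' (Coh.structureModule X')) =
      KDet.clc X ((Scheme.Modules.pushforward ν).obj (Coh.structureModule X')) :=
    PushCoh.pushCoh_clSub_of_acyclic ν 0 _ hO (fun q hq => isZero_Rpush_fin ν _ hO q hq)
  rw [K570.PushComp.push_comp ν π hgν hgc hgc', K570.ProjF.push_cap ν hgν hμ' hμ hφ hpν, h2]
  rw [← map_zsmul gc, ← map_zsmul (μ η), ← map_add gc, ← map_add (μ η)]
  congr 2
  abel

end Finite

section Fil

variable (k : Type u) [Field k] (X : Scheme.{u}) [X.Over (Spec (CommRingCat.of k))]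

/-- Classes supported in points of transcendence degree at most `m`. -/
noncomputable def Fl (m : ℤ) : AddSubgroup (SGA6.Kcoh X) :=
  ksup X {x | (VarietyB.DimSch.trd k X x : ℤ) ≤ m}

variable {X} {Y : Scheme.{u}} [Y.Over (Spec (CommRingCat.of k))]
  [LocallyOfFiniteType (X ↘ (Spec (CommRingCat.of k)))]
  [LocallyOfFiniteType (Y ↘ (Spec (CommRingCat.of k)))]

theorem coniv_one_le [IrreducibleSpace X] :
    KDet.coniv X 1 ≤ Fl k X ((VarietyB.DimSch.trd k X (genericPoint X) : ℤ) - 1) := by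
  rw [K879.CapDrop.coniv_eq]
  refine ksup_mono fun x hx => ?_
  have h := K879.DimK.dim_add_trd k x
  change ((1 : ℕ) : WithBot ℕ∞) ≤ ringKrullDim (X.presheaf.stalk x) at hx
  change (VarietyB.DimSch.trd k X x : ℤ) ≤ (VarietyB.DimSch.trd k X (genericPoint X) : ℤ) - 1
  have h2 : ((1 : ℕ) : WithBot ℕ∞) + (VarietyB.DimSch.trd k X x : WithBot ℕ∞) ≤
      (VarietyB.DimSch.trd k X (genericPoint X) : WithBot ℕ∞) := h ▸ add_le_add hx le_rfl
  have h3 : 1 + VarietyB.DimSch.trd k X x ≤ VarietyB.DimSch.trd k X (genericPoint X) := by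
    exact_mod_cast h2
  omega

theorem le_coniv_two [IrreducibleSpace Y] :
    Fl k Y ((VarietyB.DimSch.trd k Y (genericPoint Y) : ℤ) - 2) ≤ KDet.coniv Y 2 := by
  rw [K879.CapDrop.coniv_eq]
  refine ksup_mono fun y hy => ?_
  have h := K879.DimK.dim_add_trd k y
  change (VarietyB.DimSch.trd k Y y : ℤ) ≤ (VarietyB.DimSch.trd k Y (genericPoint Y) : ℤ) - 2 at hy
  change ((2 : ℕ) : WithBot ℕ∞) ≤ ringKrullDim (Y.presheaf.stalk y)
  by_contra hc
  rw [not_le] at hc
  have hne : ringKrullDim (Y.presheaf.stalk y) ≠ ⊥ := by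
    intro h0
    rw [h0] at h
    exact absurd h (by simp)
  obtain ⟨a, ha⟩ := WithBot.ne_bot_iff_exists.1 hne
  rw [← ha] at hc h
  have hc' : a < ((2 : ℕ) : ℕ∞) := WithBot.coe_lt_coe.1 hc
  obtain ⟨b, rfl⟩ := ENat.ne_top_iff_exists.1 (ne_top_of_lt hc')
  have hb : b < 2 := by exact_mod_cast hc'
  have h3 : b + VarietyB.DimSch.trd k Y y = VarietyB.DimSch.trd k Y (genericPoint Y) := by
    exact_mod_cast h
  omega

theorem push_Fl (π : X ⟶ Y) (hπ : π ≫ (Y ↘ (Spec (CommRingCat.of k))) = X ↘ (Spec (CommRingCat.of k)))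
    [IsProper π] [HasInjectiveResolutions X.Modules] [IsLocallyNoetherian X]
    {N : ℕ} {gc : SGA6.Kcoh X →+ SGA6.Kcoh Y} (hgc : KRR.IsPushCoh π N gc) (m : ℤ)
    {c : SGA6.Kcoh X} (hc : c ∈ Fl k X m) : gc c ∈ Fl k Y m := by
  refine K878.PushSup.push_mem π hgc (fun x hx => ?_) hc
  change (VarietyB.DimSch.trd k X x : ℤ) ≤ m at hx
  change (VarietyB.DimSch.trd k Y (π x) : ℤ) ≤ m
  have := K426.DimKit.trd_map_le k π hπ x
  omega

theorem trd_generic_le [IrreducibleSpace X] [IrreducibleSpace Y] (π : X ⟶ Y)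
    (hπ : π ≫ (Y ↘ (Spec (CommRingCat.of k))) = X ↘ (Spec (CommRingCat.of k))) (d : ℕ)
    (hd : ∀ y : Y, topologicalKrullDim (↥(π.fiber y) : Type u) ≤ d) :
    VarietyB.DimSch.trd k X (genericPoint X) ≤ VarietyB.DimSch.trd k Y (genericPoint Y) + d := by
  have h1 := K426.DimFib.dim_le_add k π hπ d fun y _ => by
    rw [← FlatA.FibreDim.topologicalKrullDim_fiber_eq]
    exact hd y
  rw [VarietyB.DimSch.topologicalKrullDim_eq_trd k, VarietyB.DimSch.topologicalKrullDim_eq_trd k] at h1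
  have h2 : VarietyB.DimSch.trd k X (genericPoint X) ≤ d + VarietyB.DimSch.trd k Y (genericPoint Y) := by
    exact_mod_cast h1
  omega

end Fil

end K38.FinPull
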